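import Cfsg.Agent.Lib.Comp.J4e.Ord

set_option maxRecDepth 100000
set_option Elab.async false

namespace Cfsg.Lib.Comp.J4p

universe u

abbrev iv := J4.iv

noncomputable abbrev R : List (List ℕ × ℕ) := J4.RN

abbrev L : List ℕ := J4.LN

end Cfsg.Lib.Comp.J4p
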