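import Cfsg.Agent.Lib.Comp.J4p.Base

set_option maxRecDepth 100000
set_option Elab.async false

namespace Cfsg.Lib.Comp.J4p

universe u

noncomputable def nets_1 : Net :=
 (Net.cons 12 (nat_lit 0x360)
 (Net.cons 6 (nat_lit 0x20034)
 (Net.cons 3 (nat_lit 0x100000)
 (Net.cons 1 (nat_lit 0x41240)
 (Net.cons 1 (nat_lit 0x82492)
 (Net.cons 1 (nat_lit 0x41240)
 (Net.cons 3 (nat_lit 0x41c1)
 (Net.cons 6 (nat_lit 0x1f034)
 (Net.cons 12 (nat_lit 0x360)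
 Net.nil)))))))))

noncomputable def nets_2 : Net :=
 (Net.cons 12 (nat_lit 0xb80)
 (Net.cons 6 (nat_lit 0x1a030)
 (Net.cons 1 (nat_lit 0x200201)
 (Net.cons 1 (nat_lit 0x2010)
 (Net.cons 1 (nat_lit 0x1000)
 (Net.cons 3 (nat_lit 0x40100)
 (Net.cons 6 (nat_lit 0x12032)
 (Net.cons 12 (nat_lit 0xdb0)
 Net.nil))))))))

noncomputable def nets_64 : Net :=
 (Net.cons 12 (nat_lit 0x30)
 (Net.cons 6 (nat_lit 0x26008)
 (Net.cons 3 (nat_lit 0x106000)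
 (Net.cons 1 (nat_lit 0x49040)
 (Net.cons 1 (nat_lit 0x90092)
 (Net.cons 1 (nat_lit 0x8008)
 (Net.cons 3 (nat_lit 0x1830c2)
 (Net.cons 6 (nat_lit 0x3502e)
 (Net.cons 12 (nat_lit 0xbe4)
 Net.nil)))))))))

noncomputable def nets_66 : Net :=
 (Net.cons 12 (nat_lit 0x18)
 (Net.cons 6 (nat_lit 0x2a008)
 (Net.cons 3 (nat_lit 0x84000)
 (Net.cons 1 (nat_lit 0x8040)
 (Net.cons 1 (nat_lit 0x410090)
 (Net.cons 1 (nat_lit 0x200048)
 (Net.cons 3 (nat_lit 0x83144)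
 (Net.cons 6 (nat_lit 0x2e020)
 (Net.cons 12 (nat_lit 0xa24)
 Net.nil)))))))))

noncomputable def nets_68 : Net :=
 (Net.cons 12 (nat_lit 0x990)
 (Net.cons 6 (nat_lit 0x202a)
 (Net.cons 3 (nat_lit 0x80180)
 (Net.cons 1 (nat_lit 0x201048)
 (Net.cons 1 (nat_lit 0x492090)
 (Net.cons 1 (nat_lit 0x8)
 (Net.cons 3 (nat_lit 0x102082)
 (Net.cons 6 (nat_lit 0x39022)
 (Net.cons 12 (nat_lit 0xea4)
 Net.nil)))))))))

noncomputable def nets_70 : Net :=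
 (Net.cons 12 (nat_lit 0x100)
 (Net.cons 6 (nat_lit 0x24012)
 (Net.cons 3 (nat_lit 0x2006)
 (Net.cons 1 (nat_lit 0x48208)
 (Net.cons 1 (nat_lit 0x92002)
 (Net.cons 1 (nat_lit 0x9000)
 (Net.cons 3 (nat_lit 0x104046)
 (Net.cons 6 (nat_lit 0x3502a)
 (Net.cons 12 (nat_lit 0x2b0)
 Net.nil)))))))))

noncomputable def nets_72 : Net :=
 (Net.cons 12 (nat_lit 0xe70)
 (Net.cons 6 (nat_lit 0x2e004)
 (Net.cons 3 (nat_lit 0x4002)
 (Net.cons 1 (nat_lit 0x8208)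
 (Net.cons 1 (nat_lit 0x82412)
 (Net.cons 1 (nat_lit 0x1008)
 (Net.cons 3 (nat_lit 0x1c1086)
 (Net.cons 6 (nat_lit 0x3c01c)
 (Net.cons 12 (nat_lit 0xe78)
 Net.nil)))))))))

noncomputable def nets_74 : Net :=
 (Net.cons 12 (nat_lit 0x9c)
 (Net.cons 6 (nat_lit 0x8038)
 (Net.cons 3 (nat_lit 0x184004)
 (Net.cons 1 (nat_lit 0x40240)
 (Net.cons 1 (nat_lit 0x402490)
 (Net.cons 1 (nat_lit 0x1008)
 (Net.cons 3 (nat_lit 0x851c4)
 (Net.cons 6 (nat_lit 0x1a01c)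
 (Net.cons 12 (nat_lit 0x67c)
 Net.nil)))))))))

noncomputable def nets_76 : Net :=
 (Net.cons 12 (nat_lit 0x6d4)
 (Net.cons 6 (nat_lit 0x3800e)
 (Net.cons 3 (nat_lit 0x80080)
 (Net.cons 1 (nat_lit 0x248048)
 (Net.cons 1 (nat_lit 0x90092)
 (Net.cons 1 (nat_lit 0x48000)
 (Net.cons 3 (nat_lit 0x184)
 (Net.cons 6 (nat_lit 0x1903a)
 (Net.cons 12 (nat_lit 0x6d4)
 Net.nil)))))))))

noncomputable def nets_78 : Net :=
 (Net.cons 12 (nat_lit 0xac0)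
 (Net.cons 6 (nat_lit 0x6038)
 (Net.cons 3 (nat_lit 0x100)
 (Net.cons 1 (nat_lit 0x1040)
 (Net.cons 1 (nat_lit 0x480090)
 (Net.cons 1 (nat_lit 0x48)
 (Net.cons 3 (nat_lit 0xc6000)
 (Net.cons 6 (nat_lit 0xa018)
 (Net.cons 12 (nat_lit 0x7e0)
 Net.nil)))))))))

noncomputable def nets_80 : Net :=
 (Net.cons 12 (nat_lit 0xfc0)
 (Net.cons 6 (nat_lit 0x16038)
 (Net.cons 3 (nat_lit 0x100)
 (Net.cons 1 (nat_lit 0x208008)
 (Net.cons 1 (nat_lit 0x12090)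
 (Net.cons 1 (nat_lit 0x1040)
 (Net.cons 3 (nat_lit 0x87100)
 (Net.cons 6 (nat_lit 0x33038)
 (Net.cons 12 (nat_lit 0xfc0)
 Net.nil)))))))))

noncomputable def nets_82 : Net :=
 (Net.cons 12 (nat_lit 0xd10)
 (Net.cons 6 (nat_lit 0x14000)
 (Net.cons 3 (nat_lit 0x84080)
 (Net.cons 1 (nat_lit 0x48240)
 (Net.cons 1 (nat_lit 0x492090)
 (Net.cons 1 (nat_lit 0x41040)
 (Net.cons 3 (nat_lit 0x83080)
 (Net.cons 6 (nat_lit 0x14000)
 (Net.cons 12 (nat_lit 0xd10)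
 Net.nil)))))))))

noncomputable def nets_83 : Net :=
 (Net.cons 1 (nat_lit 0x240040)
 (Net.cons 1 (nat_lit 0x492480)
 (Net.cons 1 (nat_lit 0x9200)
 Net.nil)))

noncomputable def nets : List Net := (apd [Net.nil,
 nets_1,
 nets_2,
 Net.rev nets_2,
 Net.nil,
 Net.nil,
 Net.nil,
 Net.nil,
 Net.nil,
 Net.nil,
 Net.nil,
 Net.nil,
 Net.nil,
 Net.nil,
 Net.nil,
 Net.nil,
 Net.nil,
 Net.nil,
 Net.nil,
 Net.nil,
 Net.nil,
 Net.nil,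
 Net.nil,
 Net.nil,
 Net.nil,
 Net.nil,
 Net.nil,
 Net.nil,
 Net.nil,
 Net.nil,
 Net.nil,
 Net.nil,
 Net.nil,
 Net.nil,
 Net.nil,
 Net.nil,
 Net.nil,
 Net.nil,
 Net.nil,
 Net.nil]
 (apd [Net.nil,
 Net.nil,
 Net.nil,
 Net.nil,
 Net.nil,
 Net.nil,
 Net.nil,
 Net.nil,
 Net.nil,
 Net.nil,
 Net.nil,
 Net.nil,
 Net.nil,
 Net.nil,
 Net.nil,
 Net.nil,
 Net.nil,
 Net.nil,
 Net.nil,
 Net.nil,
 Net.nil,
 Net.nil,
 Net.nil,
 Net.nil,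
 nets_64,
 Net.rev nets_64,
 nets_66,
 Net.rev nets_66,
 nets_68,
 Net.rev nets_68,
 nets_70,
 Net.rev nets_70,
 nets_72,
 Net.rev nets_72,
 nets_74,
 Net.rev nets_74,
 nets_76,
 Net.rev nets_76,
 nets_78,
 Net.rev nets_78]
 [nets_80,
 Net.rev nets_80,
 nets_82,
 nets_83,
 Net.rev nets_83]))

theorem nets_ok : NetsOK 24 nets := netsOK_of (by decide +kernel)

theorem nets_rel : Rels (gp nets) R := rels_of_relsB (k := 5) nets_ok (by norm_num) (by decide +kernel)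

theorem nets_iv : IvOK (gp nets) iv := ivOK_of_ivB (k := 5) nets_ok (by norm_num) (by decide +kernel)

noncomputable def slp : List (ℕ × List ℕ) := [(64,[3,1,3,1,2,1,3,1,3,1,3,1,2,1,2]),
 (65,[3,1,3,1,2,1,2,1,2,1,3,1,2,1,2]),
 (66,[2,1,2,1,3]),
 (67,[2,1,3,1,3]),
 (68,[65,65,65,66,65]),
 (69,[64,67,64,64,64]),
 (70,[66,68,66,69,69,66]),
 (71,[67,68,68,67,69,67]),
 (72,[66,69,67,68]),
 (73,[69,66,68,67]),
 (74,[72,70,73,71,73]),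
 (75,[72,70,72,71,73]),
 (76,[73,70]),
 (77,[71,72]),
 (78,[75,76,74,77]),
 (79,[76,75,77,74]),
 (80,[74,77,75]),
 (81,[74,76,75]),
 (82,[75,75,76,75,75,76]),
 (83,[78,81]),
 (84,[80,79])]

theorem slp_ok : slpB 24 5 nets slp L = true := by decide +kernel

theorem mem_all {x : ℕ} (h : x ∈ L ++ slp.map (·.1)) : gp nets x ∈ cl (gp nets) L :=
  cl_eq_of_slpB nets_ok (by norm_num) slp_ok ▸ mem_cl h

theorem lb : 244823040 ≤ Nat.card (cl (gp nets) L) := by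
  rw [← cl_eq_of_slpB nets_ok (by norm_num) slp_ok]
  exact lb_of_chainB nets_ok (C := [([64,65,66,67,68,69,70,71,72,73,74,75,76,77,78,79,80,81,82,83,84],[1,2,64,1,2,68,1],0,0,24),
 ([66,67,68,69,70,71,72,73,74,75,76,77,78,79,80,81,82,83,84],[64,64,68,70,72,64,68],1,1,23),
 ([70,71,72,73,74,75,76,77,78,79,80,81,82,83,84],[66,68,66,68,74,70],2,2,22),
 ([74,75,76,77,78,79,80,81,82,83,84],[70,70,72,70,74,72,74],3,3,21),
 ([78,79,80,81,82,83,84],[74,76,74,76,78,74],4,4,20),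
 ([83,84],[78,82,78,83,80],5,5,16),
 ([],[83,83],6,6,3)]) (by decide +kernel)

end Cfsg.Lib.Comp.J4p
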