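import Cfsg.Agent.S0365
import Cfsg.Agent.Lib.Comp.J4p.Perm
import Cfsg.Agent.Lib.Comp.M24x.Main

set_option maxRecDepth 100000
set_option Elab.async false

namespace Cfsg.Lib.Comp.J4p

universe u

noncomputable def lpi : Net :=
 Net.nil

theorem lpi_ok : lpi.ok 24 := ok_of_netOK (by decide +kernel)

theorem l_m1 : gp nets 1 ∈ (cl (gp M24x.nets) M24x.L).map (MulAut.conj lpi.perm).toMonoidHom :=
  mem_conj_of_eqB (k := 5) (w := [64,4,2,5,1,65,5,6,5,2,65,7,6,5,64,2,8,5,64,2,9,3,5,6]) M24x.nets_ok (by norm_num) lpi_ok (nets_ok 1)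
    (fun _ h => cl_eq_of_slpB M24x.nets_ok (by norm_num) M24x.slp_ok ▸ mem_cl h) (by decide +kernel)

theorem l_m2 : gp nets 2 ∈ (cl (gp M24x.nets) M24x.L).map (MulAut.conj lpi.perm).toMonoidHom :=
  mem_conj_of_eqB (k := 5) (w := [2,4,64,5,64,8,5,3,9,8,3]) M24x.nets_ok (by norm_num) lpi_ok (nets_ok 2)
    (fun _ h => cl_eq_of_slpB M24x.nets_ok (by norm_num) M24x.slp_ok ▸ mem_cl h) (by decide +kernel)

theorem l_m3 : gp nets 3 ∈ (cl (gp M24x.nets) M24x.L).map (MulAut.conj lpi.perm).toMonoidHom :=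
  mem_conj_of_eqB (k := 5) (w := [64,1,3,5,3,8,5,2,4,5,9,3,5,8]) M24x.nets_ok (by norm_num) lpi_ok (nets_ok 3)
    (fun _ h => cl_eq_of_slpB M24x.nets_ok (by norm_num) M24x.slp_ok ▸ mem_cl h) (by decide +kernel)

theorem card : Nat.card (cl (gp nets) L) = 244823040 := card_of_ord J4e.n_ord nets_iv nets_rel lb

theorem perm : Nonempty (Cfsg.M24 ≃* cl (gp nets) L) := by
  obtain ⟨e⟩ := M24x.perm
  have := M24x.nets_ok.finite M24x.L
  obtain ⟨φ, h1, h2⟩ := relabel e lpi.perm (G' := cl (gp nets) L)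
    (cl_le.2 (by unfold L J4.LN; simp only [List.forall_mem_cons]; exact ⟨l_m1, l_m2, l_m3, by simp⟩)) (M24x.card.trans_le lb)
  exact ⟨(MonoidHom.ofInjective h1).trans (MulEquiv.subgroupCongr h2)⟩

theorem simple : IsSimpleGroup (cl (gp nets) L) := by
  obtain ⟨e⟩ := perm
  have := Cfsg.Agent.S0365.result
  exact e.symm.isSimpleGroup

end Cfsg.Lib.Comp.J4p
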